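import Groth.Prelude.Def_Neron
import Groth.Prelude.Def_Red
import Groth.Agent.Desc19b.FlatClosure
import Groth.Agent.AlgGrpLib.SubGrpMono
import Mathlib.RingTheory.DedekindDomain.Dvr

/-!
# The schematic closure of a closed subgroup of the generic fibre of a group scheme over a Dedekind domain
-/

set_option autoImplicit false
set_option linter.style.haveILetI false
set_option backward.isDefEq.respectTransparency false
set_option backward.isDefEq.respectTransparency.types false

universe u

open CategoryTheory CategoryTheory.Limits MonoidalCategory CartesianMonoidalCategory AlgebraicGeometry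
open scoped CategoryTheory.MonObj CategoryTheory.GrpObj

namespace Groth.Agent.NeronLib27

variable {R : Type u} [CommRing R] [IsDedekindDomain R]

theorem isPrincipalIdealRing_stalk (s : Spec (CommRingCat.of R)) :
    IsPrincipalIdealRing ((Spec (CommRingCat.of R)).presheaf.stalk s) := by
  let k : Algebra R ((Spec (CommRingCat.of R)).presheaf.stalk s) := StructureSheaf.stalkAlgebra R s
  have : IsLocalization.AtPrime ((Spec (CommRingCat.of R)).presheaf.stalk s) s.asIdeal :=
    StructureSheaf.IsLocalization.to_stalk R s
  have : IsDomain ((Spec (CommRingCat.of R)).presheaf.stalk s) :=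
    IsLocalization.isDomain_of_le_nonZeroDivisors _ s.asIdeal.primeCompl_le_nonZeroDivisors
  have : IsDedekindDomain ((Spec (CommRingCat.of R)).presheaf.stalk s) :=
    IsLocalization.AtPrime.isDedekindDomain R s.asIdeal _
  infer_instance

theorem flat_genPt : Flat (Neron.genPt R) := by
  rw [Flat.SpecMap_iff]
  exact RingHom.flat_algebraMap_iff.2 (IsLocalization.flat (FractionRing R) (nonZeroDivisors R))

theorem dominant_genPt : IsSchemeTheoreticallyDominant (Neron.genPt R) := by
  haveI : IsDominant (Neron.genPt R) := ⟨(PrimeSpectrum.denseRange_comap_iff_ker_le_nilRadical (algebraMap R (FractionRing R))).2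
    ((RingHom.injective_iff_ker_eq_bot _).1 (IsFractionRing.injective R (FractionRing R)) ▸ bot_le)⟩
  exact .of_isDominant _

theorem mono_genPt : Mono (Neron.genPt R) := by
  haveI : IsPreimmersion (Neron.genPt R) := IsPreimmersion.of_isLocalization (nonZeroDivisors R)
  infer_instance

variable {G : Over (Spec (CommRingCat.of R))} {HK : Over (Spec (CommRingCat.of (FractionRing R)))}
  (i : HK ⟶ Red.bc (Neron.genPt R) G) [IsClosedImmersion i.left]

/-- The composite of a subscheme of the generic fibre with the projection to the whole scheme. -/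
noncomputable def toTotal : HK.left ⟶ G.left := i.left ≫ pullback.fst G.hom (Neron.genPt R)

instance quasiCompact_genPt_fst : QuasiCompact (pullback.fst G.hom (Neron.genPt R)) := inferInstance

instance quasiCompact_toTotal : QuasiCompact (toTotal i) :=
  inferInstanceAs (QuasiCompact (i.left ≫ pullback.fst G.hom (Neron.genPt R)))

/-- The schematic closure in `G`. -/
noncomputable def closure : Over (Spec (CommRingCat.of R)) := Over.mk ((toTotal i).imageι ≫ G.hom)

/-- The inclusion of the schematic closure. -/
noncomputable def closureι : closure i ⟶ G := Over.homMk (toTotal i).imageι rfl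

instance isClosedImmersion_closureι : IsClosedImmersion (closureι i).left :=
  inferInstanceAs (IsClosedImmersion (toTotal i).imageι)

theorem toTotal_hom : toTotal i ≫ G.hom = HK.hom ≫ Neron.genPt R := by
  rw [toTotal, Category.assoc, pullback.condition, ← Over.w i, Category.assoc]
  rfl

theorem flat_closure : Flat (closure i).hom := by
  haveI := flat_genPt (R := R)
  haveI : Flat HK.hom := inferInstance
  haveI : Flat (toTotal i ≫ G.hom) := by rw [toTotal_hom]; infer_instance
  exact Desc19b.flat_imageι isPrincipalIdealRing_stalk (toTotal i) G.hom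

theorem isPullback_closure_fst :
    IsPullback (toTotal i).toImage i.left (toTotal i).imageι (pullback.fst G.hom (Neron.genPt R)) := by
  haveI := mono_genPt (R := R)
  haveI : Flat (pullback.fst G.hom (Neron.genPt R)) := MorphismProperty.pullback_fst _ _ flat_genPt
  have hQ : QuasiCompact (pullback.fst G.hom (Neron.genPt R)) := inferInstance
  set q := pullback.fst G.hom (Neron.genPt R) with hq
  have hg : toTotal i = i.left ≫ q := rfl
  let m : HK.left ⟶ pullback (toTotal i).imageι q := pullback.lift (toTotal i).toImage i.left
    (by rw [Scheme.Hom.toImage_imageι, hg])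
  have hm : m ≫ pullback.snd (toTotal i).imageι q = i.left := pullback.lift_snd _ _ _
  haveI : Mono q := inferInstance
  have sq : IsPullback (𝟙 HK.left) i.left (toTotal i) q :=
    IsPullback.of_isLimit' ⟨by rw [Category.id_comp]; exact hg⟩ (PullbackCone.IsLimit.mk _ (fun s => s.fst)
      (fun s => Category.comp_id _) (fun s => by
        rw [← cancel_mono q, Category.assoc, ← hg]
        exact s.condition) fun s r h1 _ => by simpa using h1)
  haveI : IsIso m := IsClosedImmersion.isIso_of_ker_eq i.left (pullback.snd (toTotal i).imageι q) m hm (by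
    rw [Desc19b.ker_pullback_snd_of_flat, Scheme.Hom.imageι, Scheme.IdealSheafData.ker_subschemeι,
      ← Desc19b.ker_pullback_snd_of_flat (toTotal i) q, ← sq.isoPullback_hom_snd, Scheme.Hom.ker_comp_of_isIso])
  exact IsPullback.of_iso_pullback ⟨by rw [Scheme.Hom.toImage_imageι, hg]⟩ (asIso m)
    (pullback.lift_fst _ _ _) hm

theorem isPullback_closure :
    IsPullback (toTotal i).toImage HK.hom (closure i).hom (Neron.genPt R) := by
  have := (isPullback_closure_fst i).paste_vert (IsPullback.of_hasPullback G.hom (Neron.genPt R))
  rw [show i.left ≫ pullback.snd G.hom (Neron.genPt R) = HK.hom from Over.w i] at this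
  exact this

/-- The generic fibre of the closure is the given subscheme. -/
theorem exists_iso_bc_closure :
    ∃ φ : HK ≅ Red.bc (Neron.genPt R) (closure i), φ.hom ≫ (Over.pullback (Neron.genPt R)).map (closureι i) = i := by
  refine ⟨Over.isoMk (isPullback_closure i).isoPullback (isPullback_closure i).isoPullback_hom_snd, ?_⟩
  ext1
  apply pullback.hom_ext
  · simp [closureι, toTotal]
  · simp
    exact (Over.w i).symm

/-- A morphism from a flat scheme lands in the closure as soon as it does so on the generic fibre. -/
theorem exists_lift_closure {T : Over (Spec (CommRingCat.of R))} [Flat T.hom] (g : T ⟶ G)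
    (h : ∃ w : Red.bc (Neron.genPt R) T ⟶ HK, w ≫ i = (Over.pullback (Neron.genPt R)).map g) :
    ∃ g' : T ⟶ closure i, g' ≫ closureι i = g := by
  obtain ⟨w, hw⟩ := h
  haveI := dominant_genPt (R := R)
  haveI : IsSchemeTheoreticallyDominant (pullback.fst T.hom (Neron.genPt R)) :=
    IsSchemeTheoreticallyDominant.pullbackFst T.hom (Neron.genPt R)
  have hle : (toTotal i).imageι.ker ≤ g.left.ker := by
    rw [Scheme.Hom.imageι, Scheme.IdealSheafData.ker_subschemeι]
    have e : pullback.fst T.hom (Neron.genPt R) ≫ g.left = w.left ≫ toTotal i := by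
      have := congrArg (fun a => Over.Hom.left a ≫ pullback.fst G.hom (Neron.genPt R)) hw
      simp at this
      rw [toTotal, this]
    have : (toTotal i).ker ≤ (pullback.fst T.hom (Neron.genPt R) ≫ g.left).ker := by
      rw [e]; exact Scheme.Hom.le_ker_comp _ _
    rwa [Scheme.Hom.ker_comp, (pullback.fst T.hom (Neron.genPt R)).ker_eq_bot,
      Scheme.IdealSheafData.map_bot] at this
  refine ⟨Over.homMk (IsClosedImmersion.lift _ g.left hle) ?_, ?_⟩
  · show _ ≫ (toTotal i).imageι ≫ G.hom = T.hom
    rw [IsClosedImmersion.lift_fac_assoc, Over.w]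
  · ext1
    exact IsClosedImmersion.lift_fac _ _ _

theorem exists_grpObj_closure [GrpObj G] [GrpObj HK] [IsMonHom i] :
    ∃ _ : GrpObj (closure i), IsMonHom (closureι i) := by
  obtain ⟨φ, hφ⟩ := exists_iso_bc_closure i
  have hj : (Over.pullback (Neron.genPt R)).map (closureι i) = φ.inv ≫ i := (Iso.eq_inv_comp φ).2 hφ
  haveI : Flat (closure i).hom := flat_closure i
  haveI : Flat (closure i ⊗ closure i).hom :=
    inferInstanceAs (Flat (pullback.fst (closure i).hom (closure i).hom ≫ (closure i).hom))
  haveI : Flat (𝟙_ (Over (Spec (CommRingCat.of R)))).hom := inferInstanceAs (Flat (𝟙 _))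
  haveI : Mono (closureι i) := Over.mono_of_mono_left _
  refine AlgGrpLib.exists_grpObj_of_mono (closureι i) ?_ ?_ ?_
  · refine exists_lift_closure i _ ⟨1, ?_⟩
    rw [Functor.map_one, MonObj.one_comp]
  · refine exists_lift_closure i _
      ⟨((Over.pullback (Neron.genPt R)).map (fst _ _) ≫ φ.inv) * ((Over.pullback (Neron.genPt R)).map (snd _ _) ≫ φ.inv), ?_⟩
    rw [Functor.map_mul, MonObj.mul_comp, Functor.map_comp, Functor.map_comp, hj, Category.assoc, Category.assoc]
  · refine exists_lift_closure i _ ⟨(φ.inv)⁻¹, ?_⟩
    rw [Functor.map_inv', hj, GrpObj.inv_comp]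

end Groth.Agent.NeronLib27
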